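import Cfsg.Agent.Lib.Steinberg.Gen.TInst

/-! The tables of the lifting by the torus for the type F4 -/

set_option autoImplicit false

namespace Cfsg.Agent.Lib.Steinberg.Gen.TData.F4

open Cfsg.Lie

/-- The vectors with value one. -/
def vT : List (List ℤ) :=
  [[0, 0, 0, -1], [0, 0, -1, 0], [0, 0, 1, 0], [-1, 0, 0, 0], [0, 0, -1, 0], [0, 0, 0, -1], [0, 0, 0, 1], [0, -1, 0, 0], [0, 0, -1, 0], [0, -1, 0, 0], [0, -1, 0, 0], [-1, 0, 0, 0], [-1, 0, 0, 0], [-1, 0, 0, 0], [0, 1, 0, 0], [0, 0, -1, 0], [0, 0, 0, -1], [0, 0, 0, 1], [0, 0, 0, -1], [0, 0, -1, 0], [0, 0, 1, 0], [0, 0, -1, 0], [0, 0, 0, 1], [0, 0, 1, 0], [0, 0, -1, 0], [0, 0, 0, -1], [0, 0, 0, 1], [-1, 0, 0, 0], [-1, 0, 0, 0], [-1, 0, 0, 0], [0, 0, 0,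 -1], [0, 0, -1, 0], [0, 0, 1, 0], [0, -1, 0, 0], [0, 0, -1, 0], [0, -1, 0, 0], [0, -1, 0, 0], [0, 0, 0, -1], [0, 0, -1, 0], [0, -1, 0, 0], [-1, 0, 0, 0], [0, 0, 0, -1], [0, 0, -1, 0], [0, 0, 1, 0], [1, 0, 0, 0], [0, 0, -1, 0], [0, 0, 0, -1], [0, 0, 0, 1]]

/-- The separating vectors. -/
def vs : List (List ℤ) :=
  [[0, 0, 0, -1], [0, 0, 1, 0], [0, -1, -1, -1], [-1, -1, -1, 0], [-1, -1, -2, -2], [0, -1, -2, 0]]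

/-- The words. -/
def wT : List (List (List ℕ)) :=
  [[[], [2, 3, 1, 2, 0, 1, 2, 3, 0, 1, 2], [2, 3, 1, 2, 0, 1, 2, 3, 0, 1], [3, 2, 1, 2, 0, 1, 2, 3, 2, 1, 0], [2, 3, 1, 2, 0, 1, 2, 3, 0], [3, 2, 1, 2, 0, 1, 2, 3], [3, 2, 1, 2, 0, 1, 2, 3, 2, 1, 0], [3, 2, 1, 2, 0, 1, 2, 3, 2, 1], [3, 2, 1, 2, 0, 1, 2, 3, 2], [3, 2, 1, 2, 0, 1, 2, 3], [3, 2, 1, 2, 0, 1, 2, 3, 1, 2, 0, 1], [3, 2, 1, 2, 0, 1, 2, 3], [3, 2, 1, 2, 0, 1, 2, 3, 1, 2, 0], [3, 2, 1, 2, 0, 1, 2, 3, 1, 0], [3, 2, 1, 2, 0, 1, 2, 3, 0], [2, 3, 1, 2, 0, 1, 2, 3], [3, 2, 1, 2, 0, 1, 2, 3], [3, 2, 1, 2, 0, 1, 2, 3, 2, 1], [3, 2, 1, 2, 0, 1, 2, 3], [3, 2, 1, 2, 0, 1, 2, 3, 1, 2], [3, 2, 1, 2, 0, 1, 2, 3, 1], [3, 2, 1, 2, 0, 1, 2, 3], [3, 2, 1, 2, 0, 1, 2,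 3, 2], [3, 2, 1, 2, 0, 1, 2, 3], [2, 3, 1, 2, 0, 1, 2, 3, 0, 1, 2], [3, 2, 1, 2, 0, 1, 2, 3], [2, 3, 1, 2, 0, 1, 2, 3, 0, 1], [3, 2, 1, 2, 0, 1, 2, 3], [3, 2, 1, 2, 0, 1, 2, 3], [3, 2, 1, 2, 0, 1, 2, 3, 2, 1, 0], [3, 2, 1, 2, 0, 1, 2, 3], [2, 3, 1, 2, 0, 1, 2, 3, 0], [3, 2, 1, 2, 0, 1, 2, 3], [3, 2, 1, 2, 0, 1, 2, 3], [3, 2, 1, 2, 0, 1, 2, 3], [3, 2, 1, 2, 0, 1, 2, 3], [3, 2, 1, 2, 0, 1, 2, 3, 2, 1], [3, 2, 1, 2, 0, 1, 2, 3], [3, 2, 1, 2, 0, 1, 2, 3, 2], [3, 2, 1, 2, 0, 1, 2, 3], [3, 2, 1, 2, 0, 1, 2, 3], [3, 2, 1, 2, 0, 1, 2, 3], [2, 3, 1, 2, 0, 1, 2, 3], [3, 2, 1, 2, 0, 1, 2, 3], [3, 2, 1, 2, 0, 1, 2, 3], [3, 2, 1, 2, 0, 1, 2, 3], [3, 2, 1, 2, 0, 1, 2, 3], []],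
   [[2, 3, 1, 2, 0, 1, 2, 3, 0, 1, 2], [], [2, 3, 1, 2, 0, 1, 2, 0, 1], [1, 2, 3, 1, 2, 0, 1, 2, 1, 0], [2, 3, 1, 2, 0, 1, 2, 0], [2, 1, 2, 3, 2, 0, 1, 2, 1, 0], [3, 2, 1, 2, 0, 1, 2], [1, 2, 3, 1, 2, 0, 1, 2, 1], [1, 2, 3, 1, 2, 0, 1, 2], [2, 0, 1, 2, 3, 2, 0, 1, 2, 0, 1], [3, 2, 1, 2, 0, 1, 2], [2, 0, 1, 2, 3, 2, 0, 1, 2, 0], [3, 2, 1, 2, 0, 1, 2], [3, 2, 1, 2, 0, 1, 2, 1, 0], [3, 2, 1, 2, 0, 1, 2, 0], [2, 3, 1, 2, 0, 1, 2], [2, 1, 2, 3, 2, 0, 1, 2, 1], [3, 2, 1, 2, 0, 1, 2], [2, 0, 1, 2, 3, 2, 0, 1, 2], [3, 2, 1, 2, 0, 1, 2], [3, 2, 1, 2, 0, 1, 2, 1], [2, 1, 2, 3, 2, 0, 1, 2], [3, 2, 1, 2, 0, 1, 2], [2, 3, 2, 1, 2, 0, 1, 2, 3, 0, 1, 2], [3, 2, 1, 2, 0, 1, 2], [2, 3, 1, 2, 0, 1, 2, 0, 1], [3, 2, 1, 2, 0,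 1, 2], [3, 2, 1, 2, 0, 1, 2], [2, 1, 2, 3, 2, 0, 1, 2, 1, 0], [3, 2, 1, 2, 0, 1, 2], [2, 3, 1, 2, 0, 1, 2, 0], [3, 2, 1, 2, 0, 1, 2], [3, 2, 1, 2, 0, 1, 2], [3, 2, 1, 2, 0, 1, 2], [3, 2, 1, 2, 0, 1, 2], [2, 1, 2, 3, 2, 0, 1, 2, 1], [3, 2, 1, 2, 0, 1, 2], [2, 1, 2, 3, 2, 0, 1, 2], [3, 2, 1, 2, 0, 1, 2], [3, 2, 1, 2, 0, 1, 2], [3, 2, 1, 2, 0, 1, 2], [2, 3, 1, 2, 0, 1, 2], [3, 2, 1, 2, 0, 1, 2], [3, 2, 1, 2, 0, 1, 2], [3, 2, 1, 2, 0, 1, 2], [3, 2, 1, 2, 0, 1, 2], [], [3, 2, 1, 2, 0, 1, 2]],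
   [[2, 3, 1, 2, 0, 1, 2, 3, 0, 1], [2, 3, 1, 2, 0, 1, 2, 0, 1], [], [1, 2, 3, 0, 1, 2, 0, 1, 0], [2, 1, 2, 3, 0, 1, 2, 1, 0], [2, 3, 1, 2, 0, 1, 0], [3, 2, 1, 2, 0, 1], [1, 2, 3, 0, 1, 2, 0, 1], [2, 0, 1, 2, 3, 2, 1, 2, 0, 1, 2, 1], [1, 2, 3, 1, 2, 0, 1], [3, 2, 1, 2, 0, 1], [2, 0, 1, 2, 3, 2, 0, 1, 0], [3, 2, 0, 1, 2, 0, 1, 0], [3, 2, 1, 2, 0, 1], [3, 2, 1, 2, 0, 1, 0], [2, 1, 2, 3, 0, 1, 2, 1], [2, 3, 1, 2, 0, 1], [3, 2, 1, 2, 0, 1], [2, 0, 1, 2, 3, 2, 0, 1], [3, 2, 0, 1, 2, 0, 1], [3, 2, 1, 2, 0, 1], [2, 3, 2, 1, 2, 0, 1, 2, 3, 0, 1], [2, 3, 2, 1, 2, 0, 1, 2, 0, 1], [2, 1, 2, 3, 2, 0, 1], [3, 2, 1, 2, 0, 1], [3, 2, 1, 2, 0, 1], [3, 2, 1, 2, 0, 1], [2, 1, 2, 3, 0, 1, 2, 1, 0], [3, 2, 1, 2, 0, 1], [3, 2,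 1, 2, 0, 1], [2, 3, 1, 2, 0, 1, 0], [3, 2, 1, 2, 0, 1], [3, 2, 1, 2, 0, 1], [3, 2, 1, 2, 0, 1], [2, 1, 2, 3, 0, 1, 2, 1], [3, 2, 1, 2, 0, 1], [3, 2, 1, 2, 0, 1], [2, 1, 2, 3, 2, 0, 1], [3, 2, 1, 2, 0, 1], [3, 2, 1, 2, 0, 1], [3, 2, 1, 2, 0, 1], [2, 3, 1, 2, 0, 1], [3, 2, 1, 2, 0, 1], [3, 2, 1, 2, 0, 1], [3, 2, 1, 2, 0, 1], [], [3, 2, 1, 2, 0, 1], [3, 2, 1, 2, 0, 1]],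
   [[3, 2, 1, 2, 0, 1, 2, 3, 2, 1, 0], [1, 2, 3, 1, 2, 0, 1, 2, 1, 0], [1, 2, 3, 0, 1, 2, 0, 1, 0], [], [1, 2, 3, 0, 1, 2, 1, 0], [1, 2, 3, 0, 1, 2, 1, 0], [1, 2, 3, 0, 1, 2, 1, 0], [0, 1, 2, 3, 1, 2, 0, 1, 2, 0, 1], [0, 1, 2, 3, 1, 2, 0, 1, 2, 0], [0, 1, 2, 3, 1, 2, 0, 1, 0], [1, 2, 3, 0, 1, 2, 1, 0], [0, 1, 2, 3, 1, 2, 1, 0], [1, 2, 3, 0, 1, 2, 1, 0], [1, 2, 3, 0, 1, 2, 1, 0], [1, 2, 3, 0, 1, 2, 1, 0], [2, 0, 1, 2, 3, 2, 1, 2, 0, 1, 2, 0], [2, 0, 1, 2, 3, 2, 1, 2, 0, 1, 0], [1, 2, 3, 2, 0, 1, 2, 0, 1, 0], [1, 2, 3, 1, 2, 0, 1, 2, 3, 1, 0], [1, 2, 3, 1, 2, 0, 1, 2, 1, 0], [1, 2, 3, 0, 1, 2, 0, 1, 0], [2, 0, 1, 2, 3, 2, 1, 2, 1, 0], [1, 2, 3, 2, 0, 1, 2, 1, 0], [2, 0, 1, 2, 3, 1, 2, 1, 0], [1, 2, 3, 0, 1, 2,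 1, 0], [1, 2, 3, 0, 1, 2, 1, 0], [1, 2, 3, 0, 1, 2, 1, 0], [1, 2, 3, 0, 1, 2, 1, 0], [1, 2, 3, 0, 1, 2, 1, 0], [1, 2, 3, 0, 1, 2, 1, 0], [1, 2, 3, 0, 1, 2, 1, 0], [1, 2, 3, 0, 1, 2, 1, 0], [1, 2, 3, 0, 1, 2, 1, 0], [0, 1, 2, 3, 1, 2, 0, 1, 2, 0, 1], [0, 1, 2, 3, 1, 2, 0, 1, 2, 0], [0, 1, 2, 3, 1, 2, 0, 1, 0], [1, 2, 3, 0, 1, 2, 1, 0], [0, 1, 2, 3, 1, 2, 1, 0], [1, 2, 3, 0, 1, 2, 1, 0], [1, 2, 3, 0, 1, 2, 1, 0], [1, 2, 3, 0, 1, 2, 1, 0], [1, 2, 3, 1, 2, 0, 1, 2, 3, 1, 0], [1, 2, 3, 1, 2, 0, 1, 2, 1, 0], [1, 2, 3, 0, 1, 2, 0, 1, 0], [], [1, 2, 3, 0, 1, 2, 1, 0], [1, 2, 3, 0, 1, 2, 1, 0], [1, 2, 3, 0, 1, 2, 1, 0]],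
   [[2, 3, 1, 2, 0, 1, 2, 3, 0], [2, 3, 1, 2, 0, 1, 2, 0], [2, 1, 2, 3, 0, 1, 2, 1, 0], [1, 2, 3, 0, 1, 2, 1, 0], [], [2, 3, 1, 2, 1, 0], [3, 2, 1, 2, 0], [2, 0, 1, 2, 3, 2, 1, 2, 0, 1, 2], [1, 2, 3, 0, 1, 2, 0], [2, 0, 1, 2, 3, 2, 1, 0], [3, 2, 0, 1, 2, 1, 0], [1, 2, 3, 1, 2, 0], [3, 2, 1, 2, 0], [3, 2, 1, 2, 1, 0], [3, 2, 1, 2, 0], [2, 1, 2, 3, 0, 1, 2], [2, 3, 2, 1, 2, 0, 1, 2, 3, 0], [2, 3, 2, 1, 2, 0, 1, 2, 0], [2, 0, 1, 2, 3, 2, 0], [3, 2, 0, 1, 2, 0], [2, 1, 2, 3, 0, 1, 2, 0, 1, 0], [2, 3, 1, 2, 0], [3, 2, 1, 2, 0], [2, 1, 2, 3, 2, 0], [3, 2, 1, 2, 0], [2, 3, 1, 2, 1, 0], [3, 2, 1, 2, 0], [3, 2, 1, 2, 0], [3, 2, 1, 2, 0], [3, 2, 1, 2, 0], [3, 2, 1, 2, 0], [3, 2, 1, 2, 0], [3, 2, 1, 2, 0], [2, 1, 2, 3,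 0, 1, 2], [3, 2, 1, 2, 0], [2, 1, 2, 3, 2, 0], [3, 2, 1, 2, 0], [3, 2, 1, 2, 0], [3, 2, 1, 2, 0], [3, 2, 1, 2, 0], [3, 2, 1, 2, 0], [2, 3, 1, 2, 0], [3, 2, 1, 2, 0], [], [3, 2, 1, 2, 0], [3, 2, 1, 2, 0], [3, 2, 1, 2, 0], [3, 2, 1, 2, 0]],
   [[3, 2, 1, 2, 0, 1, 2, 3], [2, 1, 2, 3, 2, 0, 1, 2, 1, 0], [2, 3, 1, 2, 0, 1, 0], [1, 2, 3, 0, 1, 2, 1, 0], [2, 3, 1, 2, 1, 0], [], [3, 2, 1, 0], [2, 0, 1, 2, 3, 2, 1, 2, 0, 1], [2, 0, 1, 2, 3, 2, 1, 2, 0], [1, 2, 3, 0, 1, 0], [3, 1, 2, 0, 1, 0], [1, 2, 3, 1, 0], [3, 1, 2, 1, 0], [3, 2, 1, 0], [3, 2, 1, 0], [2, 3, 2, 1, 2, 0, 1, 2, 3], [2, 1, 2, 3, 0, 1], [2, 3, 2, 1, 2, 0, 1, 0], [2, 0, 1, 2, 3, 0], [2, 1, 2, 3, 1, 2, 0, 1, 2, 1, 0], [3, 2, 0, 1, 0], [2, 1, 2, 3, 0], [2,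 3, 2, 1, 2, 1, 0], [2, 3, 1, 0], [3, 2, 1, 0], [3, 2, 1, 0], [3, 2, 1, 0], [3, 2, 1, 0], [3, 2, 1, 0], [3, 2, 1, 0], [3, 2, 1, 0], [3, 2, 1, 0], [3, 2, 1, 0], [2, 1, 2, 3, 0, 1], [2, 1, 2, 3, 0], [3, 2, 1, 0], [3, 2, 1, 0], [3, 2, 1, 0], [3, 2, 1, 0], [3, 2, 1, 0], [3, 2, 1, 0], [2, 3, 1, 0], [], [3, 2, 1, 0], [3, 2, 1, 0], [3, 2, 1, 0], [3, 2, 1, 0], [3, 2, 1, 0]],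
   [[3, 2, 1, 2, 0, 1, 2, 3, 2, 1, 0], [3, 2, 1, 2, 0, 1, 2], [3, 2, 1, 2, 0, 1], [1, 2, 3, 0, 1, 2, 1, 0], [3, 2, 1, 2, 0], [3, 2, 1, 0], [], [1, 2, 3, 2, 0, 1, 2, 0, 1], [1, 2, 3, 2, 0, 1, 2, 0], [1, 2, 3, 2, 0, 1, 0], [1, 2, 0, 1, 0], [1, 2, 3, 2, 1, 0], [1, 2, 1, 0], [2, 1, 0], [2, 1, 0], [2, 3, 2, 1, 2, 0, 1, 2], [2, 3, 2, 1, 2, 0, 1], [2, 1, 2, 0, 1], [1, 2, 3, 1, 2, 0, 1, 2, 3, 2, 1, 0], [2, 0, 1, 2, 0], [2, 0, 1, 0], [2, 3, 2, 1, 2, 0], [2, 1, 2, 0], [2, 3, 2, 1, 0], [2, 1, 0], [2, 1, 0], [2, 1, 0], [2, 1, 0], [2, 1, 0], [2, 1, 0], [2, 1, 0], [2, 1, 0], [2, 1, 0], [2, 1, 2, 0, 1], [2, 1, 2, 0], [2, 1, 0], [2, 1, 0], [2, 1, 0], [2, 1, 0], [2, 1, 0], [2, 1, 0], [], [2, 1, 0], [2, 1, 0], [2, 1, 0], [2,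 1, 0], [2, 1, 0], [2, 1, 0]],
   [[3, 2, 1, 2, 0, 1, 2, 3, 2, 1], [1, 2, 3, 1, 2, 0, 1, 2, 1], [1, 2, 3, 0, 1, 2, 0, 1], [0, 1, 2, 3, 1, 2, 0, 1, 2, 0, 1], [2, 0, 1, 2, 3, 2, 1, 2, 0, 1, 2], [2, 0, 1, 2, 3, 2, 1, 2, 0, 1], [1, 2, 3, 2, 0, 1, 2, 0, 1], [], [0, 1, 2, 3, 1, 2, 0, 1, 2], [0, 1, 2, 3, 1, 2, 0, 1], [1, 2, 3, 0, 1, 2, 1], [1, 2, 3, 1, 2, 0, 1, 2, 3, 1], [1, 2, 3, 1, 2, 0, 1, 2, 1], [1, 2, 3, 0, 1, 2, 0, 1], [0, 1, 2, 3, 1, 2, 0, 1, 2, 0, 1, 0], [1, 2, 3, 0, 1, 2, 1], [1, 2, 3, 0, 1, 2, 1], [1, 2, 3, 0, 1, 2, 1], [0, 1, 2, 3, 1, 2, 1], [1, 2, 3, 0, 1, 2, 1], [1, 2, 3, 0, 1, 2, 1], [2, 0, 1, 2, 3, 2, 1, 2, 1], [1, 2, 3, 2, 0, 1, 2, 1], [2, 0, 1, 2, 3, 1, 2, 1], [1, 2, 3, 0, 1, 2, 1], [1, 2, 3, 0, 1,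 2, 1], [1, 2, 3, 0, 1, 2, 1], [0, 1, 2, 3, 1, 2, 0, 1, 2], [0, 1, 2, 3, 1, 2, 0, 1], [1, 2, 3, 0, 1, 2, 1], [1, 2, 3, 1, 2, 0, 1, 2, 3, 1], [1, 2, 3, 1, 2, 0, 1, 2, 1], [1, 2, 3, 0, 1, 2, 0, 1], [1, 2, 3, 0, 1, 2, 1], [1, 2, 3, 0, 1, 2, 1], [1, 2, 3, 0, 1, 2, 1], [1, 2, 3, 0, 1, 2, 1], [0, 1, 2, 3, 1, 2, 1], [1, 2, 3, 0, 1, 2, 1], [1, 2, 3, 0, 1, 2, 1], [], [1, 2, 3, 0, 1, 2, 1], [1, 2, 3, 0, 1, 2, 1], [1, 2, 3, 0, 1, 2, 1], [1, 2, 3, 0, 1, 2, 1], [1, 2, 3, 0, 1, 2, 1], [1, 2, 3, 0, 1, 2, 1], [1, 2, 3, 0, 1, 2, 1]],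
   [[3, 2, 1, 2, 0, 1, 2, 3, 2], [1, 2, 3, 1, 2, 0, 1, 2], [2, 0, 1, 2, 3, 2, 1, 2, 0, 1, 2, 1], [0, 1, 2, 3, 1, 2, 0, 1, 2, 0], [1, 2, 3, 0, 1, 2, 0], [2, 0, 1, 2, 3, 2, 1, 2, 0], [1, 2, 3, 2, 0, 1, 2, 0], [0, 1, 2, 3, 1, 2, 0, 1, 2], [], [1, 2, 3, 1, 2, 0, 1, 2, 3], [1, 2, 3, 1, 2, 0, 1, 2], [0, 1, 2, 3, 1, 2, 0], [1, 2, 3, 0, 1, 2], [0, 1, 2, 3, 1, 2, 0, 1, 2, 1, 0], [1, 2, 3, 0, 1, 2, 0], [1, 2, 3, 0, 1, 2], [2, 0, 1, 2, 3, 2, 1, 2], [1, 2, 3, 2, 0, 1, 2], [0, 1, 2, 3, 1, 2], [1, 2, 3, 0, 1, 2], [0, 1, 2, 3, 1, 2, 0, 1, 2, 1], [1, 2, 3, 0, 1, 2], [1, 2, 3, 0, 1, 2], [2, 0, 1, 2, 3, 1, 2], [1, 2, 3, 0, 1, 2], [1, 2, 3, 1, 2, 0, 1, 2, 3], [1, 2, 3, 1, 2, 0, 1, 2], [1, 2, 3, 0, 1, 2], [0, 1, 2, 3, 1, 2, 0],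 [1, 2, 3, 0, 1, 2], [1, 2, 3, 0, 1, 2], [1, 2, 3, 0, 1, 2], [1, 2, 3, 0, 1, 2, 0], [1, 2, 3, 0, 1, 2], [1, 2, 3, 0, 1, 2], [0, 1, 2, 3, 1, 2], [1, 2, 3, 0, 1, 2], [1, 2, 3, 0, 1, 2], [1, 2, 3, 0, 1, 2], [], [1, 2, 3, 0, 1, 2], [1, 2, 3, 0, 1, 2], [1, 2, 3, 0, 1, 2], [1, 2, 3, 0, 1, 2], [1, 2, 3, 0, 1, 2], [1, 2, 3, 0, 1, 2], [1, 2, 3, 0, 1, 2], [1, 2, 3, 0, 1, 2]],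
   [[3, 2, 1, 2, 0, 1, 2, 3], [2, 0, 1, 2, 3, 2, 0, 1, 2, 0, 1], [1, 2, 3, 1, 2, 0, 1], [0, 1, 2, 3, 1, 2, 0, 1, 0], [2, 0, 1, 2, 3, 2, 1, 0], [1, 2, 3, 0, 1, 0], [1, 2, 3, 2, 0, 1, 0], [0, 1, 2, 3, 1, 2, 0, 1], [1, 2, 3, 1, 2, 0, 1, 2, 3], [], [1, 2, 3, 1, 2, 0, 1], [0, 1, 2, 3, 1, 0], [0, 1, 2, 3, 0, 1, 2, 0, 1, 0], [1, 2, 3, 0, 1], [1, 2, 3, 0, 1, 0], [2, 0, 1, 2, 3, 2, 1], [1, 2, 3, 0, 1], [1, 2, 3, 2, 0, 1], [0, 1, 2, 3, 1], [0, 1, 2, 3, 0, 1, 2, 0, 1], [1, 2, 3, 0, 1], [2, 0, 1, 2, 3, 1], [1, 2, 3, 1, 2, 0, 1, 2, 3, 2], [1, 2, 3, 0, 1], [1, 2, 3, 1, 2, 0, 1], [1, 2, 3, 0, 1], [1, 2, 3, 0, 1], [0, 1, 2, 3, 1, 0], [1, 2, 3, 0, 1], [1, 2, 3, 0, 1], [1, 2, 3, 0, 1], [1, 2, 3, 0, 1, 0], [1, 2, 3, 0, 1], [1,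 2, 3, 0, 1], [0, 1, 2, 3, 1], [1, 2, 3, 0, 1], [1, 2, 3, 0, 1], [1, 2, 3, 0, 1], [], [1, 2, 3, 0, 1], [1, 2, 3, 0, 1], [1, 2, 3, 0, 1], [1, 2, 3, 0, 1], [1, 2, 3, 0, 1], [1, 2, 3, 0, 1], [1, 2, 3, 0, 1], [1, 2, 3, 0, 1], [1, 2, 3, 0, 1]],
   [[3, 2, 1, 2, 0, 1, 2, 3, 1, 2, 0, 1], [3, 2, 1, 2, 0, 1, 2], [3, 2, 1, 2, 0, 1], [1, 2, 3, 0, 1, 2, 1, 0], [3, 2, 0, 1, 2, 1, 0], [3, 1, 2, 0, 1, 0], [1, 2, 0, 1, 0], [1, 2, 3, 0, 1, 2, 1], [1, 2, 3, 1, 2, 0, 1, 2], [1, 2, 3, 1, 2, 0, 1], [], [0, 1, 2, 3, 0, 1, 2, 1, 0], [0, 1, 2, 1, 0], [1, 2, 0, 1], [1, 2, 0, 1, 0], [3, 2, 0, 1, 2, 1], [3, 1, 2, 0, 1], [1, 2, 0, 1], [0, 1, 2, 3, 0, 1, 2, 1], [0, 1, 2, 1], [1, 2, 0, 1], [2, 1, 2, 3, 1, 2, 0, 1, 2], [2, 0, 1, 2, 1], [2,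 1, 2, 3, 1, 2, 0, 1], [1, 2, 0, 1], [1, 2, 0, 1], [1, 2, 0, 1], [0, 1, 2, 1, 0], [1, 2, 0, 1], [1, 2, 0, 1], [1, 2, 0, 1, 0], [1, 2, 0, 1], [1, 2, 0, 1], [1, 2, 0, 1], [0, 1, 2, 1], [1, 2, 0, 1], [1, 2, 0, 1], [], [1, 2, 0, 1], [1, 2, 0, 1], [1, 2, 0, 1], [1, 2, 0, 1], [1, 2, 0, 1], [1, 2, 0, 1], [1, 2, 0, 1], [1, 2, 0, 1], [1, 2, 0, 1], [1, 2, 0, 1]],
   [[3, 2, 1, 2, 0, 1, 2, 3], [2, 0, 1, 2, 3, 2, 0, 1, 2, 0], [2, 0, 1, 2, 3, 2, 0, 1, 0], [0, 1, 2, 3, 1, 2, 1, 0], [1, 2, 3, 1, 2, 0], [1, 2, 3, 1, 0], [1, 2, 3, 2, 1, 0], [1, 2, 3, 1, 2, 0, 1, 2, 3, 1], [0, 1, 2, 3, 1, 2, 0], [0, 1, 2, 3, 1, 0], [0, 1, 2, 3, 0, 1, 2, 1, 0], [], [1, 2, 3, 1, 2, 0], [1, 2, 3, 1, 0], [1, 2, 3, 0], [2, 0, 1, 2, 3, 2], [2, 0, 1,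 2, 3], [1, 2, 3, 1, 2, 0, 1, 2, 3, 2, 1], [0, 1, 2, 3], [0, 1, 2, 3, 0, 1, 2, 0], [0, 1, 2, 3, 0, 1, 0], [1, 2, 3, 0], [1, 2, 3, 2, 0], [1, 2, 3, 0], [1, 2, 3, 1, 2, 0], [1, 2, 3, 0], [1, 2, 3, 1, 0], [1, 2, 3, 0], [1, 2, 3, 0], [1, 2, 3, 0], [1, 2, 3, 0], [1, 2, 3, 0], [1, 2, 3, 0], [0, 1, 2, 3], [1, 2, 3, 0], [1, 2, 3, 0], [], [1, 2, 3, 0], [1, 2, 3, 0], [1, 2, 3, 0], [1, 2, 3, 0], [1, 2, 3, 0], [1, 2, 3, 0], [1, 2, 3, 0], [1, 2, 3, 0], [1, 2, 3, 0], [1, 2, 3, 0], [1, 2, 3, 0]],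
   [[3, 2, 1, 2, 0, 1, 2, 3, 1, 2, 0], [3, 2, 1, 2, 0, 1, 2], [3, 2, 0, 1, 2, 0, 1, 0], [1, 2, 3, 0, 1, 2, 1, 0], [3, 2, 1, 2, 0], [3, 1, 2, 1, 0], [1, 2, 1, 0], [1, 2, 3, 1, 2, 0, 1, 2, 1], [1, 2, 3, 0, 1, 2], [0, 1, 2, 3, 0, 1, 2, 0, 1, 0], [0, 1, 2, 1, 0], [1, 2, 3, 1, 2, 0], [], [1, 2, 1, 0], [1, 2, 0], [3, 2, 0, 1, 2], [2, 1, 2, 3, 1, 2, 0, 1, 2, 1], [2, 0, 1, 2], [0, 1, 2, 3, 0, 1, 2], [0, 1, 2], [0, 1, 2, 0, 1, 0], [3, 1, 2, 0], [1, 2, 0], [2, 1, 2, 3, 1, 2, 0], [1, 2, 0], [1, 2, 1, 0], [1, 2, 0], [1, 2, 0], [1, 2, 0], [1, 2, 0], [1, 2, 0], [1, 2, 0], [1, 2, 0], [0, 1, 2], [1, 2, 0], [], [1, 2, 0], [1, 2, 0], [1, 2, 0], [1, 2, 0], [1, 2, 0], [1, 2, 0], [1, 2, 0], [1, 2, 0], [1, 2, 0], [1, 2, 0], [1,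 2, 0], [1, 2, 0]],
   [[3, 2, 1, 2, 0, 1, 2, 3, 1, 0], [3, 2, 1, 2, 0, 1, 2, 1, 0], [3, 2, 1, 2, 0, 1], [1, 2, 3, 0, 1, 2, 1, 0], [3, 2, 1, 2, 1, 0], [3, 2, 1, 0], [2, 1, 0], [1, 2, 3, 0, 1, 2, 0, 1], [0, 1, 2, 3, 1, 2, 0, 1, 2, 1, 0], [1, 2, 3, 0, 1], [1, 2, 0, 1], [1, 2, 3, 1, 0], [1, 2, 1, 0], [], [1, 0], [2, 1, 2, 3, 0, 1, 2, 0, 1], [3, 2, 0, 1], [2, 0, 1], [0, 1, 2, 3, 0, 1], [0, 1, 2, 0, 1], [0, 1], [2, 1, 2, 3, 1, 0], [2, 1, 2, 1, 0], [3, 1, 0], [1, 0], [1, 0], [1, 0], [1, 0], [1, 0], [1, 0], [1, 0], [1, 0], [1, 0], [0, 1], [], [1, 0], [1, 0], [1, 0], [1, 0], [1, 0], [1, 0], [1, 0], [1, 0], [1, 0], [1, 0], [1, 0], [1, 0], [1, 0]],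
   [[3, 2, 1, 2, 0, 1, 2, 3, 0], [3, 2, 1, 2, 0, 1, 2, 0], [3, 2, 1, 2, 0, 1, 0], [1, 2, 3, 0, 1, 2, 1, 0], [3, 2, 1, 2, 0], [3, 2, 1, 0], [2, 1, 0], [0, 1, 2, 3, 1, 2, 0, 1, 2, 0, 1, 0], [1, 2, 3, 0, 1, 2, 0], [1, 2, 3, 0, 1, 0], [1, 2, 0, 1, 0], [1, 2, 3, 0], [1, 2, 0], [1, 0], [], [2, 1, 2, 3, 0, 1, 2, 0], [2, 1, 2, 3, 0, 1, 0], [2, 1, 2, 0, 1, 0], [0, 1, 2, 3, 0], [0, 1, 2, 0], [0, 1, 0], [3, 2, 0], [2, 0], [3, 0], [0], [0], [0], [0], [0], [0], [0], [0], [0], [], [0], [0], [0], [0], [0], [0], [0], [0], [0], [0], [0], [0], [0], [0]],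
   [[2, 3, 1, 2, 0, 1, 2, 3], [2, 3, 1, 2, 0, 1, 2], [2, 1, 2, 3, 0, 1, 2, 1], [2, 0, 1, 2, 3, 2, 1, 2, 0, 1, 2, 0], [2, 1, 2, 3, 0, 1, 2], [2, 3, 2, 1, 2, 0, 1, 2, 3], [2, 3, 2, 1, 2, 0, 1, 2], [1, 2, 3, 0, 1, 2, 1], [1, 2, 3, 0, 1, 2], [2, 0, 1, 2, 3, 2, 1], [3, 2, 0, 1, 2, 1], [2, 0, 1, 2, 3, 2], [3, 2, 0, 1, 2], [2, 1, 2, 3, 0, 1, 2, 0, 1], [2, 1, 2, 3, 0, 1, 2, 0], [], [2, 3, 1, 2, 1], [3, 2, 1, 2], [1, 2, 3, 1, 2], [3, 2, 1, 2], [3, 2, 1, 2, 1], [2, 3, 1, 2], [3, 2, 1, 2], [2, 1, 2, 3, 2], [3, 2, 1, 2], [2, 3, 1, 2, 1], [3, 2, 1, 2], [3, 2, 1, 2], [2, 1, 2, 3, 2], [3, 2, 1, 2], [2, 3, 1, 2], [3, 2, 1, 2], [], [3, 2, 1, 2], [3, 2, 1, 2], [3, 2, 1, 2], [3, 2, 1, 2], [3, 2, 1, 2], [3, 2, 1, 2], [3, 2, 1,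 2], [3, 2, 1, 2], [3, 2, 1, 2], [3, 2, 1, 2], [3, 2, 1, 2], [3, 2, 1, 2], [3, 2, 1, 2], [3, 2, 1, 2], [3, 2, 1, 2]],
   [[3, 2, 1, 2, 0, 1, 2, 3], [2, 1, 2, 3, 2, 0, 1, 2, 1], [2, 3, 1, 2, 0, 1], [2, 0, 1, 2, 3, 2, 1, 2, 0, 1, 0], [2, 3, 2, 1, 2, 0, 1, 2, 3, 0], [2, 1, 2, 3, 0, 1], [2, 3, 2, 1, 2, 0, 1], [1, 2, 3, 0, 1, 2, 1], [2, 0, 1, 2, 3, 2, 1, 2], [1, 2, 3, 0, 1], [3, 1, 2, 0, 1], [2, 0, 1, 2, 3], [2, 1, 2, 3, 1, 2, 0, 1, 2, 1], [3, 2, 0, 1], [2, 1, 2, 3, 0, 1, 0], [2, 3, 1, 2, 1], [], [3, 2, 1], [1, 2, 3, 1], [3, 1, 2, 1], [3, 2, 1], [2, 1, 2, 3], [2, 3, 2, 1, 2, 1], [2, 3, 1], [3, 2, 1], [3, 2, 1], [3, 2, 1], [2, 1, 2, 3], [3, 2, 1], [3, 2, 1], [2, 3, 1], [], [3, 2, 1], [3, 2, 1], [3, 2, 1], [3, 2, 1],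 [3, 2, 1], [3, 2, 1], [3, 2, 1], [3, 2, 1], [3, 2, 1], [3, 2, 1], [3, 2, 1], [3, 2, 1], [3, 2, 1], [3, 2, 1], [3, 2, 1], [3, 2, 1]],
   [[3, 2, 1, 2, 0, 1, 2, 3, 2, 1], [3, 2, 1, 2, 0, 1, 2], [3, 2, 1, 2, 0, 1], [1, 2, 3, 2, 0, 1, 2, 0, 1, 0], [2, 3, 2, 1, 2, 0, 1, 2, 0], [2, 3, 2, 1, 2, 0, 1, 0], [2, 1, 2, 0, 1], [1, 2, 3, 0, 1, 2, 1], [1, 2, 3, 2, 0, 1, 2], [1, 2, 3, 2, 0, 1], [1, 2, 0, 1], [1, 2, 3, 1, 2, 0, 1, 2, 3, 2, 1], [2, 0, 1, 2], [2, 0, 1], [2, 1, 2, 0, 1, 0], [3, 2, 1, 2], [3, 2, 1], [], [1, 2, 3, 2, 1], [1, 2, 1], [2, 1], [2, 3, 2, 1, 2], [2, 1, 2], [2, 3, 2, 1], [2, 1], [2, 1], [2, 1], [2, 1, 2], [2, 1], [2, 1], [], [2, 1], [2, 1], [2, 1], [2, 1], [2, 1], [2, 1], [2, 1], [2, 1], [2, 1], [2, 1],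 [2, 1], [2, 1], [2, 1], [2, 1], [2, 1], [2, 1], [2, 1]],
   [[3, 2, 1, 2, 0, 1, 2, 3], [2, 0, 1, 2, 3, 2, 0, 1, 2], [2, 0, 1, 2, 3, 2, 0, 1], [1, 2, 3, 1, 2, 0, 1, 2, 3, 1, 0], [2, 0, 1, 2, 3, 2, 0], [2, 0, 1, 2, 3, 0], [1, 2, 3, 1, 2, 0, 1, 2, 3, 2, 1, 0], [0, 1, 2, 3, 1, 2, 1], [0, 1, 2, 3, 1, 2], [0, 1, 2, 3, 1], [0, 1, 2, 3, 0, 1, 2, 1], [0, 1, 2, 3], [0, 1, 2, 3, 0, 1, 2], [0, 1, 2, 3, 0, 1], [0, 1, 2, 3, 0], [1, 2, 3, 1, 2], [1, 2, 3, 1], [1, 2, 3, 2, 1], [], [1, 2, 3, 1, 2], [1, 2, 3, 1], [1, 2, 3], [1, 2, 3, 2], [1, 2, 3], [1, 2, 3, 1, 2], [1, 2, 3], [1, 2, 3, 1], [1, 2, 3], [1, 2, 3], [], [1, 2, 3], [1, 2, 3], [1, 2, 3], [1, 2, 3], [1, 2, 3], [1, 2, 3], [1, 2, 3], [1, 2, 3], [1, 2, 3], [1, 2, 3], [1,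 2, 3], [1, 2, 3], [1, 2, 3], [1, 2, 3], [1, 2, 3], [1, 2, 3], [1, 2, 3], [1, 2, 3]],
   [[3, 2, 1, 2, 0, 1, 2, 3, 1, 2], [3, 2, 1, 2, 0, 1, 2], [3, 2, 0, 1, 2, 0, 1], [1, 2, 3, 1, 2, 0, 1, 2, 1, 0], [3, 2, 0, 1, 2, 0], [2, 1, 2, 3, 1, 2, 0, 1, 2, 1, 0], [2, 0, 1, 2, 0], [1, 2, 3, 0, 1, 2, 1], [1, 2, 3, 0, 1, 2], [0, 1, 2, 3, 0, 1, 2, 0, 1], [0, 1, 2, 1], [0, 1, 2, 3, 0, 1, 2, 0], [0, 1, 2], [0, 1, 2, 0, 1], [0, 1, 2, 0], [3, 2, 1, 2], [3, 1, 2, 1], [1, 2, 1], [1, 2, 3, 1, 2], [], [1, 2, 1], [3, 1, 2], [1, 2], [2, 1, 2, 3, 1, 2], [1, 2], [1, 2, 1], [1, 2], [1, 2], [], [1, 2], [1, 2], [1, 2], [1, 2], [1, 2], [1, 2], [1, 2], [1, 2], [1, 2], [1, 2], [1, 2], [1, 2], [1, 2], [1, 2], [1, 2], [1, 2], [1, 2], [1, 2],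 [1, 2]],
   [[3, 2, 1, 2, 0, 1, 2, 3, 1], [3, 2, 1, 2, 0, 1, 2, 1], [3, 2, 1, 2, 0, 1], [1, 2, 3, 0, 1, 2, 0, 1, 0], [2, 1, 2, 3, 0, 1, 2, 0, 1, 0], [3, 2, 0, 1, 0], [2, 0, 1, 0], [1, 2, 3, 0, 1, 2, 1], [0, 1, 2, 3, 1, 2, 0, 1, 2, 1], [1, 2, 3, 0, 1], [1, 2, 0, 1], [0, 1, 2, 3, 0, 1, 0], [0, 1, 2, 0, 1, 0], [0, 1], [0, 1, 0], [3, 2, 1, 2, 1], [3, 2, 1], [2, 1], [1, 2, 3, 1], [1, 2, 1], [], [2, 1, 2, 3, 1], [2, 1, 2, 1], [3, 1], [1], [1], [1], [], [1], [1], [1], [1], [1], [1], [1], [1], [1], [1], [1], [1], [1], [1], [1], [1], [1], [1], [1], [1]],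
   [[3, 2, 1, 2, 0, 1, 2, 3], [2, 1, 2, 3, 2, 0, 1, 2], [2, 3, 2, 1, 2, 0, 1, 2, 3, 0, 1], [2, 0, 1, 2, 3, 2, 1, 2, 1, 0], [2, 3, 1, 2, 0], [2, 1, 2, 3, 0], [2, 3, 2, 1, 2, 0], [2, 0, 1, 2, 3, 2, 1, 2, 1], [1, 2, 3, 0, 1, 2], [2, 0, 1, 2, 3, 1], [2, 1, 2, 3, 1, 2, 0, 1, 2], [1, 2, 3, 0], [3, 1, 2, 0], [2, 1, 2, 3, 1, 0], [3, 2, 0], [2, 3, 1, 2], [2, 1, 2, 3], [2, 3, 2, 1, 2], [1, 2, 3], [3, 1, 2], [2, 1, 2, 3, 1], [], [3, 2], [2, 3], [3, 2], [2, 3], [], [3, 2], [3, 2], [3, 2], [3, 2], [3, 2], [3, 2], [3, 2], [3, 2], [3, 2], [3, 2], [3, 2], [3, 2], [3, 2], [3, 2], [3, 2], [3, 2], [3, 2], [3, 2], [3, 2], [3, 2], [3, 2]],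
   [[3, 2, 1, 2, 0, 1, 2, 3, 2], [3, 2, 1, 2, 0, 1, 2], [2, 3, 2, 1, 2, 0, 1, 2, 0, 1], [1, 2, 3, 2, 0, 1, 2, 1, 0], [3, 2, 1, 2, 0], [2, 3, 2, 1, 2, 1, 0], [2, 1, 2, 0], [1, 2, 3, 2, 0, 1, 2, 1], [1, 2, 3, 0, 1, 2], [1, 2, 3, 1, 2, 0, 1, 2, 3, 2], [2, 0, 1, 2, 1], [1, 2, 3, 2, 0], [1, 2, 0], [2, 1, 2, 1, 0], [2, 0], [3, 2, 1, 2], [2, 3, 2, 1, 2, 1], [2, 1, 2], [1, 2, 3, 2], [1, 2], [2, 1, 2, 1], [3, 2], [], [2, 3, 2], [2], [], [2], [2], [2], [2], [2], [2], [2], [2], [2], [2], [2], [2], [2], [2], [2], [2], [2], [2], [2], [2], [2], [2]],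
   [[3, 2, 1, 2, 0, 1, 2, 3], [2, 3, 2, 1, 2, 0, 1, 2, 3, 0, 1, 2], [2, 1, 2, 3, 2, 0, 1], [2, 0, 1, 2, 3, 1, 2, 1, 0], [2, 1, 2, 3, 2, 0], [2, 3, 1, 0], [2, 3, 2, 1, 0], [2, 0, 1, 2, 3, 1, 2, 1], [2, 0, 1, 2, 3, 1, 2], [1, 2, 3, 0, 1], [2, 1, 2, 3, 1, 2, 0, 1], [1, 2, 3, 0], [2, 1, 2, 3, 1, 2, 0], [3, 1, 0], [3, 0], [2, 1, 2, 3, 2], [2, 3, 1], [2, 3, 2, 1], [1, 2, 3], [2, 1, 2, 3, 1, 2], [3, 1], [2, 3], [2, 3, 2], [], [], [3], [3], [3], [3], [3], [3], [3], [3], [3], [3], [3], [3], [3], [3], [3], [3], [3], [3], [3], [3], [3], [3], [3]],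
   [[2, 3, 1, 2, 0, 1, 2, 3, 0, 1, 2], [3, 2, 1, 2, 0, 1, 2], [3, 2, 1, 2, 0, 1], [1, 2, 3, 0, 1, 2, 1, 0], [3, 2, 1, 2, 0], [3, 2, 1, 0], [2, 1, 0], [1, 2, 3, 0, 1, 2, 1], [1, 2, 3, 0, 1, 2], [1, 2, 3, 1, 2, 0, 1], [1, 2, 0, 1], [1, 2, 3, 1, 2, 0], [1, 2, 0], [1, 0], [0], [3, 2, 1, 2], [3, 2, 1], [2, 1], [1, 2, 3, 1, 2], [1, 2], [1], [3, 2], [2], [], [], [], [], [], [], [], [], [], [], [], [], [], [], [], [], [], [], [], [], [], [], [], [], []],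
   [[3, 2, 1, 2, 0, 1, 2, 3], [2, 3, 1, 2, 0, 1, 2, 0, 1], [3, 2, 1, 2, 0, 1], [1, 2, 3, 0, 1, 2, 1, 0], [2, 3, 1, 2, 1, 0], [3, 2, 1, 0], [2, 1, 0], [1, 2, 3, 0, 1, 2, 1], [1, 2, 3, 1, 2, 0, 1, 2, 3], [1, 2, 3, 0, 1], [1, 2, 0, 1], [1, 2, 3, 0], [1, 2, 1, 0], [1, 0], [0], [2, 3, 1, 2, 1], [3, 2, 1], [2, 1], [1, 2, 3], [1, 2, 1], [1], [2, 3], [], [3], [], [], [], [], [], [], [], [], [], [], [], [], [], [], [], [], [], [], [], [], [], [], [], []],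
   [[2, 3, 1, 2, 0, 1, 2, 3, 0, 1], [3, 2, 1, 2, 0, 1, 2], [3, 2, 1, 2, 0, 1], [1, 2, 3, 0, 1, 2, 1, 0], [3, 2, 1, 2, 0], [3, 2, 1, 0], [2, 1, 0], [1, 2, 3, 0, 1, 2, 1], [1, 2, 3, 1, 2, 0, 1, 2], [1, 2, 3, 0, 1], [1, 2, 0, 1], [1, 2, 3, 1, 0], [1, 2, 0], [1, 0], [0], [3, 2, 1, 2], [3, 2, 1], [2, 1], [1, 2, 3, 1], [1, 2], [1], [], [2], [3], [], [], [], [], [], [], [], [], [], [], [], [], [], [], [], [], [], [], [], [], [], [], [], []],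
   [[3, 2, 1, 2, 0, 1, 2, 3], [3, 2, 1, 2, 0, 1, 2], [2, 1, 2, 3, 0, 1, 2, 1, 0], [1, 2, 3, 0, 1, 2, 1, 0], [3, 2, 1, 2, 0], [3, 2, 1, 0], [2, 1, 0], [0, 1, 2, 3, 1, 2, 0, 1, 2], [1, 2, 3, 0, 1, 2], [0, 1, 2, 3, 1, 0], [0, 1, 2, 1, 0], [1, 2, 3, 0], [1, 2, 0], [1, 0], [0], [3, 2, 1, 2], [2, 1, 2, 3], [2, 1, 2], [1, 2, 3], [1, 2], [], [3, 2], [2], [3], [], [], [], [], [], [], [], [], [], [], [], [], [], [], [], [], [], [], [], [], [], [], [], []],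
   [[3, 2, 1, 2, 0, 1, 2, 3], [2, 1, 2, 3, 2, 0, 1, 2, 1, 0], [3, 2, 1, 2, 0, 1], [1, 2, 3, 0, 1, 2, 1, 0], [3, 2, 1, 2, 0], [3, 2, 1, 0], [2, 1, 0], [0, 1, 2, 3, 1, 2, 0, 1], [0, 1, 2, 3, 1, 2, 0], [1, 2, 3, 0, 1], [1, 2, 0, 1], [1, 2, 3, 0], [1, 2, 0], [1, 0], [0], [2, 1, 2, 3, 2], [3, 2, 1], [2, 1], [1, 2, 3], [], [1], [3, 2], [2], [3], [], [], [], [], [], [], [], [], [], [], [], [], [], [], [], [], [], [], [], [], [], [], [], []],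
   [[3, 2, 1, 2, 0, 1, 2, 3, 2, 1, 0], [3, 2, 1, 2, 0, 1, 2], [3, 2, 1, 2, 0, 1], [1, 2, 3, 0, 1, 2, 1, 0], [3, 2, 1, 2, 0], [3, 2, 1, 0], [2, 1, 0], [1, 2, 3, 0, 1, 2, 1], [1, 2, 3, 0, 1, 2], [1, 2, 3, 0, 1], [1, 2, 0, 1], [1, 2, 3, 0], [1, 2, 0], [1, 0], [0], [3, 2, 1, 2], [3, 2, 1], [2, 1], [], [1, 2], [1], [3, 2], [2], [3], [], [], [], [], [], [], [], [], [], [], [], [], [], [], [], [], [], [], [], [], [], [], [], []],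
   [[3, 2, 1, 2, 0, 1, 2, 3], [2, 3, 1, 2, 0, 1, 2, 0], [2, 3, 1, 2, 0, 1, 0], [1, 2, 3, 0, 1, 2, 1, 0], [3, 2, 1, 2, 0], [3, 2, 1, 0], [2, 1, 0], [1, 2, 3, 1, 2, 0, 1, 2, 3, 1], [1, 2, 3, 0, 1, 2], [1, 2, 3, 0, 1], [1, 2, 0, 1, 0], [1, 2, 3, 0], [1, 2, 0], [1, 0], [0], [2, 3, 1, 2], [2, 3, 1], [], [1, 2, 3], [1, 2], [1], [3, 2], [2], [3], [], [], [], [], [], [], [], [], [], [], [], [], [], [], [], [], [], [], [], [], [], [], [], []],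
   [[2, 3, 1, 2, 0, 1, 2, 3, 0], [3, 2, 1, 2, 0, 1, 2], [3, 2, 1, 2, 0, 1], [1, 2, 3, 0, 1, 2, 1, 0], [3, 2, 1, 2, 0], [3, 2, 1, 0], [2, 1, 0], [1, 2, 3, 1, 2, 0, 1, 2, 1], [1, 2, 3, 0, 1, 2], [1, 2, 3, 0, 1, 0], [1, 2, 0, 1], [1, 2, 3, 0], [1, 2, 0], [1, 0], [0], [3, 2, 1, 2], [], [2, 1], [1, 2, 3], [1, 2], [1], [3, 2], [2], [3], [], [], [], [], [], [], [], [], [], [], [], [], [], [], [], [], [], [], [], [], [], [], [], []],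
   [[3, 2, 1, 2, 0, 1, 2, 3], [3, 2, 1, 2, 0, 1, 2], [3, 2, 1, 2, 0, 1], [1, 2, 3, 0, 1, 2, 1, 0], [3, 2, 1, 2, 0], [3, 2, 1, 0], [2, 1, 0], [1, 2, 3, 0, 1, 2, 0, 1], [1, 2, 3, 0, 1, 2, 0], [1, 2, 3, 0, 1], [1, 2, 0, 1], [1, 2, 3, 0], [1, 2, 0], [1, 0], [0], [], [3, 2, 1], [2, 1], [1, 2, 3], [1, 2], [1], [3, 2], [2], [3], [], [], [], [], [], [], [], [], [], [], [], [], [], [], [], [], [], [], [], [], [], [], [], []],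
   [[3, 2, 1, 2, 0, 1, 2, 3], [3, 2, 1, 2, 0, 1, 2], [3, 2, 1, 2, 0, 1], [0, 1, 2, 3, 1, 2, 0, 1, 2, 0, 1], [2, 1, 2, 3, 0, 1, 2], [2, 1, 2, 3, 0, 1], [2, 1, 2, 0, 1], [1, 2, 3, 0, 1, 2, 1], [1, 2, 3, 0, 1, 2], [1, 2, 3, 0, 1], [1, 2, 0, 1], [0, 1, 2, 3], [0, 1, 2], [0, 1], [], [3, 2, 1, 2], [3, 2, 1], [2, 1], [1, 2, 3], [1, 2], [1], [3, 2], [2], [3], [], [], [], [], [], [], [], [], [], [], [], [], [], [], [], [], [], [], [], [], [], [], [], []],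
   [[3, 2, 1, 2, 0, 1, 2, 3], [3, 2, 1, 2, 0, 1, 2], [2, 1, 2, 3, 0, 1, 2, 1], [0, 1, 2, 3, 1, 2, 0, 1, 2, 0], [3, 2, 1, 2, 0], [2, 1, 2, 3, 0], [2, 1, 2, 0], [1, 2, 3, 0, 1, 2, 1], [1, 2, 3, 0, 1, 2], [0, 1, 2, 3, 1], [0, 1, 2, 1], [1, 2, 3, 0], [1, 2, 0], [], [0], [3, 2, 1, 2], [3, 2, 1], [2, 1], [1, 2, 3], [1, 2], [1], [3, 2], [2], [3], [], [], [], [], [], [], [], [], [], [], [], [], [], [], [], [], [], [], [], [], [], [], [], []],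
   [[3, 2, 1, 2, 0, 1, 2, 3], [2, 1, 2, 3, 2, 0, 1, 2, 1], [3, 2, 1, 2, 0, 1], [0, 1, 2, 3, 1, 2, 0, 1, 0], [2, 1, 2, 3, 2, 0], [3, 2, 1, 0], [2, 1, 0], [1, 2, 3, 0, 1, 2, 1], [0, 1, 2, 3, 1, 2], [1, 2, 3, 0, 1], [1, 2, 0, 1], [1, 2, 3, 0], [], [1, 0], [0], [3, 2, 1, 2], [3, 2, 1], [2, 1], [1, 2, 3], [1, 2], [1], [3, 2], [2], [3], [], [], [], [], [], [], [], [], [], [], [], [], [], [], [], [], [], [], [], [], [], [], [], []],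
   [[3, 2, 1, 2, 0, 1, 2, 3, 2, 1], [3, 2, 1, 2, 0, 1, 2], [3, 2, 1, 2, 0, 1], [1, 2, 3, 0, 1, 2, 1, 0], [3, 2, 1, 2, 0], [3, 2, 1, 0], [2, 1, 0], [1, 2, 3, 0, 1, 2, 1], [1, 2, 3, 0, 1, 2], [1, 2, 3, 0, 1], [1, 2, 0, 1], [], [1, 2, 0], [1, 0], [0], [3, 2, 1, 2], [3, 2, 1], [2, 1], [1, 2, 3], [1, 2], [1], [3, 2], [2], [3], [], [], [], [], [], [], [], [], [], [], [], [], [], [], [], [], [], [], [], [], [], [], [], []],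
   [[3, 2, 1, 2, 0, 1, 2, 3], [2, 1, 2, 3, 2, 0, 1, 2], [2, 1, 2, 3, 2, 0, 1], [0, 1, 2, 3, 1, 2, 1, 0], [3, 2, 1, 2, 0], [3, 2, 1, 0], [2, 1, 0], [0, 1, 2, 3, 1, 2, 1], [1, 2, 3, 0, 1, 2], [1, 2, 3, 0, 1], [], [1, 2, 3, 0], [1, 2, 0], [1, 0], [0], [3, 2, 1, 2], [3, 2, 1], [2, 1], [1, 2, 3], [1, 2], [1], [3, 2], [2], [3], [], [], [], [], [], [], [], [], [], [], [], [], [], [], [], [], [], [], [], [], [], [], [], []],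
   [[3, 2, 1, 2, 0, 1, 2, 3, 2], [3, 2, 1, 2, 0, 1, 2], [3, 2, 1, 2, 0, 1], [1, 2, 3, 0, 1, 2, 1, 0], [3, 2, 1, 2, 0], [3, 2, 1, 0], [2, 1, 0], [1, 2, 3, 0, 1, 2, 1], [1, 2, 3, 0, 1, 2], [], [1, 2, 0, 1], [1, 2, 3, 0], [1, 2, 0], [1, 0], [0], [3, 2, 1, 2], [3, 2, 1], [2, 1], [1, 2, 3], [1, 2], [1], [3, 2], [2], [3], [], [], [], [], [], [], [], [], [], [], [], [], [], [], [], [], [], [], [], [], [], [], [], []],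
   [[3, 2, 1, 2, 0, 1, 2, 3], [3, 2, 1, 2, 0, 1, 2], [3, 2, 1, 2, 0, 1], [1, 2, 3, 0, 1, 2, 1, 0], [3, 2, 1, 2, 0], [3, 2, 1, 0], [2, 1, 0], [1, 2, 3, 0, 1, 2, 1], [], [1, 2, 3, 0, 1], [1, 2, 0, 1], [1, 2, 3, 0], [1, 2, 0], [1, 0], [0], [3, 2, 1, 2], [3, 2, 1], [2, 1], [1, 2, 3], [1, 2], [1], [3, 2], [2], [3], [], [], [], [], [], [], [], [], [], [], [], [], [], [], [], [], [], [], [], [], [], [], [], []],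
   [[3, 2, 1, 2, 0, 1, 2, 3], [3, 2, 1, 2, 0, 1, 2], [3, 2, 1, 2, 0, 1], [1, 2, 3, 0, 1, 2, 1, 0], [3, 2, 1, 2, 0], [3, 2, 1, 0], [2, 1, 0], [], [1, 2, 3, 0, 1, 2], [1, 2, 3, 0, 1], [1, 2, 0, 1], [1, 2, 3, 0], [1, 2, 0], [1, 0], [0], [3, 2, 1, 2], [3, 2, 1], [2, 1], [1, 2, 3], [1, 2], [1], [3, 2], [2], [3], [], [], [], [], [], [], [], [], [], [], [], [], [], [], [], [], [], [], [], [], [], [], [], []],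
   [[3, 2, 1, 2, 0, 1, 2, 3], [2, 3, 1, 2, 0, 1, 2], [2, 3, 1, 2, 0, 1], [1, 2, 3, 1, 2, 0, 1, 2, 3, 1, 0], [2, 3, 1, 2, 0], [2, 3, 1, 0], [], [1, 2, 3, 0, 1, 2, 1], [1, 2, 3, 0, 1, 2], [1, 2, 3, 0, 1], [1, 2, 0, 1], [1, 2, 3, 0], [1, 2, 0], [1, 0], [0], [3, 2, 1, 2], [3, 2, 1], [2, 1], [1, 2, 3], [1, 2], [1], [3, 2], [2], [3], [], [], [], [], [], [], [], [], [], [], [], [], [], [], [], [], [], [], [], [], [], [], [], []],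
   [[2, 3, 1, 2, 0, 1, 2, 3], [3, 2, 1, 2, 0, 1, 2], [3, 2, 1, 2, 0, 1], [1, 2, 3, 1, 2, 0, 1, 2, 1, 0], [3, 2, 1, 2, 0], [], [2, 1, 0], [1, 2, 3, 0, 1, 2, 1], [1, 2, 3, 0, 1, 2], [1, 2, 3, 0, 1], [1, 2, 0, 1], [1, 2, 3, 0], [1, 2, 0], [1, 0], [0], [3, 2, 1, 2], [3, 2, 1], [2, 1], [1, 2, 3], [1, 2], [1], [3, 2], [2], [3], [], [], [], [], [], [], [], [], [], [], [], [], [], [], [], [], [], [], [], [], [], [], [], []],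
   [[3, 2, 1, 2, 0, 1, 2, 3], [3, 2, 1, 2, 0, 1, 2], [3, 2, 1, 2, 0, 1], [1, 2, 3, 0, 1, 2, 0, 1, 0], [], [3, 2, 1, 0], [2, 1, 0], [1, 2, 3, 0, 1, 2, 1], [1, 2, 3, 0, 1, 2], [1, 2, 3, 0, 1], [1, 2, 0, 1], [1, 2, 3, 0], [1, 2, 0], [1, 0], [0], [3, 2, 1, 2], [3, 2, 1], [2, 1], [1, 2, 3], [1, 2], [1], [3, 2], [2], [3], [], [], [], [], [], [], [], [], [], [], [], [], [], [], [], [], [], [], [], [], [], [], [], []],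
   [[3, 2, 1, 2, 0, 1, 2, 3], [3, 2, 1, 2, 0, 1, 2], [3, 2, 1, 2, 0, 1], [], [3, 2, 1, 2, 0], [3, 2, 1, 0], [2, 1, 0], [1, 2, 3, 0, 1, 2, 1], [1, 2, 3, 0, 1, 2], [1, 2, 3, 0, 1], [1, 2, 0, 1], [1, 2, 3, 0], [1, 2, 0], [1, 0], [0], [3, 2, 1, 2], [3, 2, 1], [2, 1], [1, 2, 3], [1, 2], [1], [3, 2], [2], [3], [], [], [], [], [], [], [], [], [], [], [], [], [], [], [], [], [], [], [], [], [], [], [], []],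
   [[3, 2, 1, 2, 0, 1, 2, 3], [3, 2, 1, 2, 0, 1, 2], [], [1, 2, 3, 0, 1, 2, 1, 0], [3, 2, 1, 2, 0], [3, 2, 1, 0], [2, 1, 0], [1, 2, 3, 0, 1, 2, 1], [1, 2, 3, 0, 1, 2], [1, 2, 3, 0, 1], [1, 2, 0, 1], [1, 2, 3, 0], [1, 2, 0], [1, 0], [0], [3, 2, 1, 2], [3, 2, 1], [2, 1], [1, 2, 3], [1, 2], [1], [3, 2], [2], [3], [], [], [], [], [], [], [], [], [], [], [], [], [], [], [], [], [], [], [], [], [], [], [], []],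
   [[3, 2, 1, 2, 0, 1, 2, 3], [], [3, 2, 1, 2, 0, 1], [1, 2, 3, 0, 1, 2, 1, 0], [3, 2, 1, 2, 0], [3, 2, 1, 0], [2, 1, 0], [1, 2, 3, 0, 1, 2, 1], [1, 2, 3, 0, 1, 2], [1, 2, 3, 0, 1], [1, 2, 0, 1], [1, 2, 3, 0], [1, 2, 0], [1, 0], [0], [3, 2, 1, 2], [3, 2, 1], [2, 1], [1, 2, 3], [1, 2], [1], [3, 2], [2], [3], [], [], [], [], [], [], [], [], [], [], [], [], [], [], [], [], [], [], [], [], [], [], [], []],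
   [[], [3, 2, 1, 2, 0, 1, 2], [3, 2, 1, 2, 0, 1], [1, 2, 3, 0, 1, 2, 1, 0], [3, 2, 1, 2, 0], [3, 2, 1, 0], [2, 1, 0], [1, 2, 3, 0, 1, 2, 1], [1, 2, 3, 0, 1, 2], [1, 2, 3, 0, 1], [1, 2, 0, 1], [1, 2, 3, 0], [1, 2, 0], [1, 0], [0], [3, 2, 1, 2], [3, 2, 1], [2, 1], [1, 2, 3], [1, 2], [1], [3, 2], [2], [3], [], [], [], [], [], [], [], [], [], [], [], [], [], [], [], [], [], [], [], [], [], [], [], []]]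

set_option maxHeartbeats 0

theorem hn : 48 = chevF4.nroots := by decide +kernel
theorem c1 : unitChk chevF4 48 vT = true := by decide +kernel
theorem c2 : sepChk chevF4 48 [1, -1, 2, -2] [] vs = true := by decide +kernel
theorem c3 : wordChk chevF4 48 wT = true := by decide +kernel

end Cfsg.Agent.Lib.Steinberg.Gen.TData.F4
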